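/-
Helper library (helper65): BG Theorem 14.7, part A.  A "P-pair" `(M, K)`: `M` maximal, `K ≠ 1` ANY Hall
`κ(M)`-subgroup (not assumed cyclic), `K* = ks M K = M_σ ∩ C(K)`.  Everything is derived from the frozen
rows S1430, S1431 taken as hypotheses (`Helper34.BGRows.H1430`, `H1431`).
-/
import Cfsg.Agent.Lib.Helper65.BG147Gen
import Cfsg.Agent.Lib.Helper34.BGRows
import Cfsg.Agent.Lib.Helper20.BG144e

set_option autoImplicit false

namespace Cfsg.Agent.Lib.Helper65.BG147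

open Subgroup Cfsg
open Cfsg.Agent.Lib
open Cfsg.Agent.Lib.Helper24 Cfsg.Agent.Lib.Helper34 Cfsg.Agent.Lib.Helper31.BG11
open Cfsg.Agent.Lib.Helper34.BGRows

universe u

variable {G : Type u} [Group G] [Finite G]

/-- `K* = M_σ ∩ C_G(K)`. -/
abbrev ks (M K : Subgroup G) : Subgroup G := sigmaCore M ⊓ centralizer (K : Set G)

/-- `Ẑ = K K* \ (K ∪ K*)`. -/
abbrev zhat (M K : Subgroup G) : Set G :=
  (↑(K ⊔ ks M K) : Set G) \ ((K : Set G) ∪ ↑(ks M K))

/-- A P-pair. -/
structure PP (M K : Subgroup G) : Prop where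
  coatom : IsCoatom M
  hall : IsPiHallOf (kappa M) K M
  ne : K ≠ ⊥

theorem pow_card_eq_one_of_mem {H : Subgroup G} {a : G} (ha : a ∈ H) : a ^ Nat.card H = 1 := by
  have := pow_card_eq_one' (G := H) (x := ⟨a, ha⟩)
  exact congrArg Subtype.val this

theorem orderOf_dvd_card_of_mem {H : Subgroup G} {a : G} (ha : a ∈ H) : orderOf a ∣ Nat.card H :=
  orderOf_dvd_of_pow_eq_one (pow_card_eq_one_of_mem ha)

theorem ks_le_sc (M K : Subgroup G) : ks M K ≤ sigmaCore M := inf_le_left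

theorem ks_le (M K : Subgroup G) : ks M K ≤ M := inf_le_left.trans (sc_le M)

namespace PP

variable {M K : Subgroup G}

theorem le (h : PP M K) : K ≤ M := h.hall.1

theorem coprime_sc (h : PP M K) : (Nat.card K).Coprime (Nat.card (sigmaCore M)) := by
  apply Nat.coprime_of_dvd
  intro p hp h1 h2
  exact (h.hall.2.1 p hp h1).2.2.1 (sc_primes M hp h2)

theorem coprime (h : PP M K) : (Nat.card K).Coprime (Nat.card (ks M K)) :=
  h.coprime_sc.coprime_dvd_right (card_dvd_of_le (ks_le_sc M K))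

theorem disj_sc (h : PP M K) : K ⊓ sigmaCore M = ⊥ :=
  (disjoint_of_coprime_natCard h.coprime_sc).eq_bot

theorem disj (h : PP M K) : K ⊓ ks M K = ⊥ := (disjoint_of_coprime_natCard h.coprime).eq_bot

theorem comm {a b : G} (ha : a ∈ K) (hb : b ∈ ks M K) : a * b = b * a :=
  (mem_centralizer_iff.mp hb.2) a ha

theorem ks_le_normalizer : ks M K ≤ normalizer (K : Set G) :=
  inf_le_right.trans (Helper20.BG14.centralizer_le_normalizer' K)

theorem le_normalizer_ks : K ≤ normalizer (ks M K : Set G) := by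
  intro a ha
  rw [mem_normalizer_iff]
  intro b
  constructor
  · intro hb
    rw [comm ha hb]; simpa using hb
  · intro hb
    have h1 := comm (M := M) (K.inv_mem ha) hb
    have h2 : b = a⁻¹ * (a * b * a⁻¹) * a := by group
    rw [h2, h1]; simpa using hb

theorem mem_sup {z : G} : z ∈ K ⊔ ks M K ↔ ∃ a ∈ K, ∃ b ∈ ks M K, a * b = z :=
  Helper22.mem_sup_of_le_normalizer ks_le_normalizer

theorem sup_le (h : PP M K) : K ⊔ ks M K ≤ M := _root_.sup_le h.le (ks_le M K)

theorem card_sup (h : PP M K) :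
    Nat.card (K ⊔ ks M K : Subgroup G) = Nat.card K * Nat.card (ks M K) := by
  apply Nat.dvd_antisymm (Helper22.card_sup_dvd ks_le_normalizer)
  exact h.coprime.mul_dvd_of_dvd_of_dvd (card_dvd_of_le le_sup_left) (card_dvd_of_le le_sup_right)

theorem mem_zhat (h : PP M K) {z : G} :
    z ∈ zhat M K ↔ ∃ a ∈ K, a ≠ 1 ∧ ∃ b ∈ ks M K, b ≠ 1 ∧ z = a * b := by
  constructor
  · rintro ⟨hz, hn⟩
    obtain ⟨a, ha, b, hb, rfl⟩ := mem_sup.mp hz
    refine ⟨a, ha, ?_, b, hb, ?_, rfl⟩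
    · rintro rfl
      exact hn (Or.inr (by simpa using hb))
    · rintro rfl
      exact hn (Or.inl (by simpa using ha))
  · rintro ⟨a, ha, ha1, b, hb, hb1, rfl⟩
    refine ⟨mem_sup.mpr ⟨a, ha, b, hb, rfl⟩, ?_⟩
    rintro (h1 | h1)
    · have h2 : b ∈ K := by
        have := K.mul_mem (K.inv_mem ha) h1
        simpa using this
      have h3 : b ∈ K ⊓ ks M K := ⟨h2, hb⟩
      rw [h.disj, mem_bot] at h3
      exact hb1 h3
    · have h2 : a ∈ ks M K := by
        have := (ks M K).mul_mem h1 ((ks M K).inv_mem hb)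
        simpa using this
      have h3 : a ∈ K ⊓ ks M K := ⟨ha, h2⟩
      rw [h.disj, mem_bot] at h3
      exact ha1 h3

theorem mul_pow_card_left {a b : G} (ha : a ∈ K) (hb : b ∈ ks M K) :
    (a * b) ^ Nat.card K = b ^ Nat.card K := by
  have hc : Commute a b := comm ha hb
  rw [hc.mul_pow, pow_card_eq_one_of_mem ha, one_mul]

theorem mul_pow_card_right {a b : G} (ha : a ∈ K) (hb : b ∈ ks M K) :
    (a * b) ^ Nat.card (ks M K) = a ^ Nat.card (ks M K) := by
  have hc : Commute a b := comm ha hb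
  rw [hc.mul_pow, pow_card_eq_one_of_mem hb, mul_one]

theorem pow_ne_left (h : PP M K) {b : G} (hb : b ∈ ks M K) (hb1 : b ≠ 1) : b ^ Nat.card K ≠ 1 :=
  pow_ne_one_of_coprime hb1 ((h.coprime.symm).coprime_dvd_left (orderOf_dvd_card_of_mem hb))

theorem pow_ne_right (h : PP M K) {a : G} (ha : a ∈ K) (ha1 : a ≠ 1) :
    a ^ Nat.card (ks M K) ≠ 1 :=
  pow_ne_one_of_coprime ha1 (h.coprime.coprime_dvd_left (orderOf_dvd_card_of_mem ha))

/-- `K* ≠ 1`. -/
theorem ks_ne_bot (h : PP M K) (h30 : H1430 G) : ks M K ≠ ⊥ := by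
  have hc : Nat.card K ≠ 1 := fun hc => h.ne (card_eq_one.mp hc)
  obtain ⟨p, hp, hpK⟩ := Nat.exists_prime_and_dvd hc
  haveI : Fact p.Prime := ⟨hp⟩
  obtain ⟨-, -, -, hP⟩ := h.hall.2.1 p hp hpK
  obtain ⟨Q, hQK, -⟩ := exists_isSylowIn_ge (p := p) (bot_le : (⊥ : Subgroup G) ≤ K) IsPGroup.of_bot
  have hQM : IsSylowIn p Q M := by
    refine ⟨hQK.1.trans h.le, hQK.2.1, ?_⟩
    rw [← relIndex_mul_relIndex Q K M hQK.1 h.le]
    intro hd
    rcases hp.dvd_mul.mp hd with hd | hd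
    · exact hQK.2.2 hd
    · exact h.hall.2.2 p hp (h.hall.2.1 p hp hpK) hd
  obtain ⟨-, x, hx, hx1, y, hy, hy1, hxy⟩ := hP hQM.toSylow
  rw [hQM.coe_toSylow, mem_subgroupOf] at hx
  have hxK : (x : G) ∈ K := hQK.1 hx
  have hx1' : (x : G) ≠ 1 := fun e => hx1 (Subtype.ext e)
  have h1 := (h30 M h.coatom K h.hall h.ne).1 x hxK hx1'
  have h2 : y ∈ sigmaCore M ⊓ centralizer ({(x : G)} : Set G) :=
    ⟨hy, Helper20.BG14.mem_centralizer_singleton.mpr hxy⟩
  rw [h1] at h2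
  intro hb
  have h3 : y ∈ ks M K := h2
  rw [hb, mem_bot] at h3
  exact hy1 h3

/-- A non-identity element of `K*` lies in no conjugate of `M` other than `M`. -/
theorem mem_of_mem_cj (h : PP M K) (h31 : H1431 G) {b g : G} (hb : b ∈ ks M K) (hb1 : b ≠ 1)
    (hg : b ∈ cj g M) : g ∈ M := by
  by_contra hgM
  have h1 := (h31 M h.coatom K h.hall h.ne).1 g hgM
  have h2 : b ∈ ks M K ⊓ cj g M := ⟨hb, hg⟩
  rw [h1, mem_bot] at h2
  exact hb1 h2

theorem normalizer_le (h : PP M K) (h31 : H1431 G) {B : Subgroup G} (hB : B ≤ ks M K) (hB1 : B ≠ ⊥) :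
    normalizer (B : Set G) ≤ M := by
  intro g hg
  obtain ⟨b, hb, hb1⟩ : ∃ b ∈ B, b ≠ 1 := by
    by_contra hcon
    push_neg at hcon
    exact hB1 ((eq_bot_iff_forall B).mpr hcon)
  have h1 : g * b * g⁻¹ ∈ B := (mem_normalizer_iff.mp hg b).mp hb
  refine h.mem_of_mem_cj h31 (hB h1) ?_ (conj_mem_map_conj (ks_le M K (hB hb)))
  intro e
  apply hb1
  have := congrArg (fun z => g⁻¹ * z * g) e
  simpa [mul_assoc] using this

theorem centralizer_le (h : PP M K) (h31 : H1431 G) {y : G} (hy : y ∈ ks M K) (hy1 : y ≠ 1) :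
    centralizer ({y} : Set G) ≤ M := by
  intro g hg
  have h1 : y * g = g * y := Helper20.BG14.mem_centralizer_singleton.mp hg
  have h2 : g * y * g⁻¹ = y := by rw [← h1]; group
  refine h.mem_of_mem_cj h31 hy hy1 ?_
  rw [← h2]
  exact conj_mem_map_conj (ks_le M K hy)

/-- The TI property of `Ẑ`. -/
theorem zhat_ti (h : PP M K) (h31 : H1431 G) {z g : G} (hz : z ∈ zhat M K)
    (hg : g * z * g⁻¹ ∈ K ⊔ ks M K) : g ∈ K ⊔ ks M K := by
  obtain ⟨a, ha, ha1, b, hb, hb1, rfl⟩ := h.mem_zhat.mp hz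
  obtain ⟨a', ha', b', hb', he⟩ := mem_sup.mp hg
  have hgM : g ∈ M := by
    have h1 : g * b ^ Nat.card K * g⁻¹ = b' ^ Nat.card K := by
      rw [← mul_pow_card_left ha hb, ← mul_pow_card_left ha' hb', he, conj_pow]
    have h2 : g * b ^ Nat.card K * g⁻¹ ∈ ks M K := by rw [h1]; exact (ks M K).pow_mem hb' _
    refine h.mem_of_mem_cj h31 h2 ?_ (conj_mem_map_conj (ks_le M K ((ks M K).pow_mem hb _)))
    intro e
    apply h.pow_ne_left hb hb1
    have := congrArg (fun z => g⁻¹ * z * g) e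
    simpa [mul_assoc] using this
  by_contra hgZ
  have h3 := (h31 M h.coatom K h.hall h.ne).2.1 g hgM hgZ
  have h1 : g * a ^ Nat.card (ks M K) * g⁻¹ = a' ^ Nat.card (ks M K) := by
    rw [← mul_pow_card_right ha hb, ← mul_pow_card_right ha' hb', he, conj_pow]
  have h2 : g * a ^ Nat.card (ks M K) * g⁻¹ ∈ K ⊓ cj g K :=
    ⟨by rw [h1]; exact K.pow_mem ha' _, conj_mem_map_conj (K.pow_mem ha _)⟩
  rw [h3, mem_bot] at h2
  apply h.pow_ne_right ha ha1
  have := congrArg (fun z => g⁻¹ * z * g) h2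
  simpa [mul_assoc] using this

/-- `Ẑ ∩ M^g = ∅` for `g ∉ M`. -/
theorem zhat_not_mem_cj (h : PP M K) (h31 : H1431 G) {z g : G} (hz : z ∈ zhat M K) (hg : g ∉ M) :
    z ∉ cj g M := by
  obtain ⟨a, ha, ha1, b, hb, hb1, rfl⟩ := h.mem_zhat.mp hz
  intro hm
  apply hg
  refine h.mem_of_mem_cj h31 ((ks M K).pow_mem hb (Nat.card K)) (h.pow_ne_left hb hb1) ?_
  rw [← mul_pow_card_left ha hb]
  exact (cj g M).pow_mem hm _

theorem zhat_inv (h : PP M K) {z t : G} (ht : t ∈ K ⊔ ks M K) (hz : z ∈ zhat M K) :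
    t * z * t⁻¹ ∈ zhat M K := by
  obtain ⟨a, ha, ha1, b, hb, hb1, rfl⟩ := h.mem_zhat.mp hz
  have hnK : K ⊔ ks M K ≤ normalizer (K : Set G) := _root_.sup_le le_normalizer ks_le_normalizer
  have hnL : K ⊔ ks M K ≤ normalizer (ks M K : Set G) := _root_.sup_le le_normalizer_ks le_normalizer
  refine h.mem_zhat.mpr ⟨t * a * t⁻¹, (mem_normalizer_iff.mp (hnK ht) a).mp ha, ?_,
    t * b * t⁻¹, (mem_normalizer_iff.mp (hnL ht) b).mp hb, ?_, by group⟩
  · intro e
    apply ha1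
    have := congrArg (fun z => t⁻¹ * z * t) e
    simpa [mul_assoc] using this
  · intro e
    apply hb1
    have := congrArg (fun z => t⁻¹ * z * t) e
    simpa [mul_assoc] using this

theorem ncard_zhat (h : PP M K) :
    Set.ncard (zhat M K) + (Nat.card K + Nat.card (ks M K)) =
      Nat.card K * Nat.card (ks M K) + 1 := by
  have h1 : ((K : Set G) ∪ ↑(ks M K)) ⊆ (↑(K ⊔ ks M K) : Set G) :=
    Set.union_subset (SetLike.coe_subset_coe.mpr le_sup_left) (SetLike.coe_subset_coe.mpr le_sup_right)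
  have h2 := Set.ncard_diff_add_ncard_of_subset h1 (Set.toFinite _)
  have h3 := Set.ncard_union_add_ncard_inter (K : Set G) (↑(ks M K) : Set G) (Set.toFinite _)
    (Set.toFinite _)
  have h4 : ((K : Set G) ∩ ↑(ks M K)) = {1} := by
    rw [← coe_inf, h.disj]; rfl
  rw [h4, Set.ncard_singleton] at h3
  have h5 : Set.ncard (↑(K ⊔ ks M K) : Set G) = Nat.card K * Nat.card (ks M K) := by
    rw [← h.card_sup]; exact (Nat.card_coe_set_eq _).symm
  have h6 : Set.ncard (K : Set G) = Nat.card K := (Nat.card_coe_set_eq _).symm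
  have h7 : Set.ncard (↑(ks M K) : Set G) = Nat.card (ks M K) := (Nat.card_coe_set_eq _).symm
  rw [h5] at h2
  rw [h6, h7] at h3
  have h8 : Set.ncard (zhat M K) = Set.ncard ((↑(K ⊔ ks M K) : Set G) \ ((K : Set G) ∪ ↑(ks M K))) := rfl
  omega

theorem count₀ (h : PP M K) (h31 : H1431 G) :
    Nat.card K * Nat.card (ks M K) *
      Set.ncard {a : G | ∃ g : G, ∃ z ∈ zhat M K, a = g * z * g⁻¹} =
      Set.ncard (zhat M K) * Nat.card G := by
  rw [← h.card_sup]
  exact card_mul_ncard_conj (K ⊔ ks M K) (zhat M K) (fun t ht z hz => h.zhat_inv ht hz)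
    (fun z hz g hg => h.zhat_ti h31 hz hg.1)

theorem three_le_of_ne_bot (hG : IsMinSimpleOddOrder G) {H : Subgroup G} (hH : H ≠ ⊥) :
    3 ≤ Nat.card H := by
  have h1 : Nat.card H ≠ 1 := fun hc => hH (card_eq_one.mp hc)
  have h2 : 0 < Nat.card H := Nat.card_pos
  obtain ⟨m, hm⟩ := MS_odd hG H
  omega

theorem ncard_zhat_eq (h : PP M K) (hG : IsMinSimpleOddOrder G) (h30 : H1430 G) :
    Set.ncard (zhat M K) =
      Nat.card K * Nat.card (ks M K) - Nat.card K - Nat.card (ks M K) + 1 := by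
  have h1 := h.ncard_zhat
  have h2 := three_le_of_ne_bot hG h.ne
  have h3 := three_le_of_ne_bot hG (h.ks_ne_bot h30)
  have h4 : Nat.card K + Nat.card (ks M K) ≤ Nat.card K * Nat.card (ks M K) := by nlinarith
  omega

/-- The count of BG 14.7(e). -/
theorem count (h : PP M K) (hG : IsMinSimpleOddOrder G) (h30 : H1430 G) (h31 : H1431 G) :
    Nat.card K * Nat.card (ks M K) *
      Set.ncard {a : G | ∃ g : G, ∃ z ∈ zhat M K, a = g * z * g⁻¹} =
      (Nat.card K * Nat.card (ks M K) - Nat.card K - Nat.card (ks M K) + 1) * Nat.card G := by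
  rw [h.count₀ h31, h.ncard_zhat_eq hG h30]

theorem half_lt (h : PP M K) (hG : IsMinSimpleOddOrder G) (h30 : H1430 G) (h31 : H1431 G) :
    Nat.card G < 2 * Set.ncard {a : G | ∃ g : G, ∃ z ∈ zhat M K, a = g * z * g⁻¹} := by
  have h0 := h.count₀ h31
  have h1 := h.ncard_zhat
  have h2 := three_le_of_ne_bot hG h.ne
  have h3 := three_le_of_ne_bot hG (h.ks_ne_bot h30)
  obtain ⟨m, hm⟩ := MS_odd hG K
  obtain ⟨m', hm'⟩ := MS_odd hG (ks M K)
  have hcop := h.coprime
  set k := Nat.card K with hk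
  set s := Nat.card (ks M K) with hs
  set n := Set.ncard (zhat M K) with hn
  set A := Set.ncard {a : G | ∃ g : G, ∃ z ∈ zhat M K, a = g * z * g⁻¹} with hA
  have h5 : 5 ≤ k ∨ 5 ≤ s := by
    by_contra hcon
    push_neg at hcon
    have hk3 : k = 3 := by omega
    have hs3 : s = 3 := by omega
    rw [hk3, hs3] at hcop
    exact absurd hcop (by decide)
  have h6 : k * s < 2 * n := by
    have h7 : 2 * k + 2 * s < k * s + 2 := by
      rcases h5 with h5 | h5 <;> nlinarith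
    omega
  have hGpos : 0 < Nat.card G := Nat.card_pos
  have h8 : k * s * Nat.card G < k * s * (2 * A) := by
    calc k * s * Nat.card G < 2 * n * Nat.card G := Nat.mul_lt_mul_of_pos_right h6 hGpos
      _ = 2 * (k * s * A) := by rw [h0]; ring
      _ = k * s * (2 * A) := by ring
  exact Nat.lt_of_mul_lt_mul_left h8

end PP

end Cfsg.Agent.Lib.Helper65.BG147
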