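/-
Helper library (helper65): BG Theorem 14.7, part B.  A P-pair `(M, K)` with a partner `M*`
(`K = C_{M*_σ}(K*)`, `K*` a Hall `κ(M*)`-subgroup of `M*`): symmetry, `σ(M) ∩ σ(M*) = ∅`,
`M_σ ∩ M* = K*`, `M ∩ M* = K K*`, `K*` is a Hall `σ(M)`-subgroup of `M*`.
-/
import Cfsg.Agent.Lib.Helper65.BG147a

set_option autoImplicit false

namespace Cfsg.Agent.Lib.Helper65.BG147

open Subgroup Cfsg
open Cfsg.Agent.Lib
open Cfsg.Agent.Lib.Helper24 Cfsg.Agent.Lib.Helper34 Cfsg.Agent.Lib.Helper31.BG11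
open Cfsg.Agent.Lib.Helper34.BGRows

universe u

variable {G : Type u} [Group G] [Finite G]

theorem exists_mem_ne_one {B : Subgroup G} (hB1 : B ≠ ⊥) : ∃ b ∈ B, b ≠ 1 := by
  by_contra hcon
  push_neg at hcon
  exact hB1 ((eq_bot_iff_forall B).mpr hcon)

theorem exists_prime_le {K : Subgroup G} (hK : K ≠ ⊥) :
    ∃ X : Subgroup G, X ≤ K ∧ (Nat.card X).Prime := by
  have hc : Nat.card K ≠ 1 := fun hc => hK (card_eq_one.mp hc)
  obtain ⟨p, hp, hpK⟩ := Nat.exists_prime_and_dvd hc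
  haveI : Fact p.Prime := ⟨hp⟩
  obtain ⟨x, hx⟩ := exists_prime_orderOf_dvd_card' (G := K) p hpK
  refine ⟨zpowers (x : G), zpowers_le.mpr x.2, ?_⟩
  rw [Nat.card_zpowers, Subgroup.orderOf_coe, hx]
  exact hp

namespace PP

variable {M K : Subgroup G}

theorem inf_normalizer_of_prime (h : PP M K) (h30 : H1430 G) {X : Subgroup G} (hX : X ≤ K)
    (hXp : (Nat.card X).Prime) : M ⊓ normalizer (X : Set G) = K ⊔ ks M K :=
  ((h30 M h.coatom K h.hall h.ne).2.2 X hX hXp).1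

theorem inf_normalizer (h : PP M K) (h30 : H1430 G) : M ⊓ normalizer (K : Set G) = K ⊔ ks M K := by
  obtain ⟨X, hX, hXp⟩ := exists_prime_le h.ne
  exact ((h30 M h.coatom K h.hall h.ne).2.2 X hX hXp).2.1

theorem inf_centralizer_le (h : PP M K) (h30 : H1430 G) {x : G} (hx : x ∈ K) (hx1 : x ≠ 1) :
    M ⊓ centralizer ({x} : Set G) ≤ K ⊔ ks M K := by
  have ho : orderOf x ≠ 1 := fun e => hx1 (orderOf_eq_one_iff.mp e)
  obtain ⟨q, hq, hqd⟩ := Nat.exists_prime_and_dvd ho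
  obtain ⟨Y, hYc, hYx, hC⟩ := Helper20.BG14.exists_prime_sub hq hqd
  rw [← h.inf_normalizer_of_prime h30 (hYx.trans (zpowers_le.mpr hx)) (by rw [hYc]; exact hq)]
  exact inf_le_inf_left M (hC.trans (Helper20.BG14.centralizer_le_normalizer' Y))

theorem centralizer_zhat_le (h : PP M K) (h31 : H1431 G) {z : G} (hz : z ∈ zhat M K) :
    centralizer ({z} : Set G) ≤ K ⊔ ks M K := by
  intro g hg
  have h1 : z * g = g * z := Helper20.BG14.mem_centralizer_singleton.mp hg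
  have h2 : g * z * g⁻¹ = z := by rw [← h1]; group
  exact h.zhat_ti h31 hz (by rw [h2]; exact hz.1)

end PP

/-- `Ms` is a partner of the P-pair `(M, K)`. -/
structure Partner (M K Ms : Subgroup G) : Prop where
  coatom : IsCoatom Ms
  eq : K = sigmaCore Ms ⊓ centralizer ((sigmaCore M ⊓ centralizer (K : Set G) : Subgroup G) : Set G)
  hall : IsPiHallOf (kappa Ms) (sigmaCore M ⊓ centralizer (K : Set G)) Ms

namespace Partner

variable {M K Ms : Subgroup G}

theorem ks_eq (hp : Partner M K Ms) : ks Ms (ks M K) = K := hp.eq.symm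

theorem pp (hp : Partner M K Ms) (h : PP M K) (h30 : H1430 G) : PP Ms (ks M K) :=
  ⟨hp.coatom, hp.hall, h.ks_ne_bot h30⟩

theorem symm (hp : Partner M K Ms) (h : PP M K) : Partner Ms (ks M K) M where
  coatom := h.coatom
  eq := by
    have := hp.ks_eq
    show ks M K = sigmaCore M ⊓ centralizer ((ks Ms (ks M K) : Subgroup G) : Set G)
    rw [this]
  hall := by
    have := hp.ks_eq
    show IsPiHallOf (kappa M) (ks Ms (ks M K)) M
    rw [this]
    exact h.hall

theorem le_sc (hp : Partner M K Ms) : K ≤ sigmaCore Ms := by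
  have : ks Ms (ks M K) ≤ sigmaCore Ms := inf_le_left
  rwa [hp.ks_eq] at this

theorem le (hp : Partner M K Ms) : K ≤ Ms := hp.le_sc.trans (sc_le Ms)

theorem ks_le (hp : Partner M K Ms) : ks M K ≤ Ms := hp.hall.1

theorem ne (hp : Partner M K Ms) (h : PP M K) : Ms ≠ M := by
  rintro rfl
  apply h.ne
  rw [eq_bot_iff, ← h.disj_sc]
  exact le_inf le_rfl hp.le_sc

theorem not_conj (hp : Partner M K Ms) (h : PP M K) (h30 : H1430 G) (h31 : H1431 G) (g : G) :
    Ms ≠ cj g M := by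
  intro e
  obtain ⟨b, hb, hb1⟩ := exists_mem_ne_one (h.ks_ne_bot h30)
  have hg : g ∈ M := h.mem_of_mem_cj h31 hb hb1 (by rw [← e]; exact hp.ks_le hb)
  rw [cj_of_mem hg] at e
  exact hp.ne h e

theorem sigma_disj (hp : Partner M K Ms) (h : PP M K) (h30 : H1430 G) (h31 : H1431 G)
    (h78 : H1378 G) {p : ℕ} (h1 : p ∈ sigma M) : p ∉ sigma Ms := by
  intro h2
  obtain ⟨g, hg⟩ := h78.2 M Ms h.coatom hp.coatom ⟨p, h1, h2⟩
  exact hp.not_conj h h30 h31 g hg

theorem coprime_sc (hp : Partner M K Ms) (h : PP M K) (h30 : H1430 G) (h31 : H1431 G)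
    (h78 : H1378 G) : (Nat.card (sigmaCore M)).Coprime (Nat.card (sigmaCore Ms)) := by
  apply Nat.coprime_of_dvd
  intro p hpp h1 h2
  exact hp.sigma_disj h h30 h31 h78 (sc_primes M hpp h1) (sc_primes Ms hpp h2)

/-- `M_σ ∩ M* = K*`. -/
theorem sc_inf (hp : Partner M K Ms) (h : PP M K) (h30 : H1430 G) (h31 : H1431 G)
    (h78 : H1378 G) : sigmaCore M ⊓ Ms = ks M K := by
  apply le_antisymm
  · intro d hd'
    obtain ⟨hd, hdMs⟩ := mem_inf.mp hd'
    refine mem_inf.mpr ⟨hd, ?_⟩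
    rw [mem_centralizer_iff]
    intro a ha
    have hdisj : sigmaCore M ⊓ sigmaCore Ms = ⊥ :=
      (disjoint_of_coprime_natCard (hp.coprime_sc h h30 h31 h78)).eq_bot
    have h1 : d * a * d⁻¹ ∈ sigmaCore Ms :=
      (mem_normalizer_iff.mp (sc_norm Ms hdMs) a).mp (hp.le_sc ha)
    have h2 : a * d⁻¹ * a⁻¹ ∈ sigmaCore M :=
      (mem_normalizer_iff.mp (sc_norm M (h.le ha)) d⁻¹).mp (inv_mem hd)
    have h3 : d * a * d⁻¹ * a⁻¹ ∈ sigmaCore M ⊓ sigmaCore Ms := by
      refine mem_inf.mpr ⟨?_, mul_mem h1 (inv_mem (hp.le_sc ha))⟩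
      have : d * a * d⁻¹ * a⁻¹ = d * (a * d⁻¹ * a⁻¹) := by group
      rw [this]
      exact mul_mem hd h2
    rw [hdisj, mem_bot] at h3
    have h4 : d * a = a * d := by
      have := congrArg (fun z => z * a * d) h3
      simpa [mul_assoc] using this
    exact h4.symm
  · exact le_inf (ks_le_sc M K) hp.ks_le

/-- `M*_σ ∩ M = K`. -/
theorem sc_inf' (hp : Partner M K Ms) (h : PP M K) (h30 : H1430 G) (h31 : H1431 G)
    (h78 : H1378 G) : sigmaCore Ms ⊓ M = K := by
  have := (hp.symm h).sc_inf (hp.pp h h30) h30 h31 h78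
  rwa [hp.ks_eq] at this

/-- `M ∩ M* = K K*`. -/
theorem inf_eq (hp : Partner M K Ms) (h : PP M K) (h30 : H1430 G) (h31 : H1431 G)
    (h78 : H1378 G) : M ⊓ Ms = K ⊔ ks M K := by
  apply le_antisymm
  · rw [← h.inf_normalizer h30]
    refine le_inf inf_le_left ?_
    intro d hd'
    obtain ⟨hdM, hdMs⟩ := mem_inf.mp hd'
    have hK := hp.sc_inf' h h30 h31 h78
    rw [mem_normalizer_iff]
    intro a
    rw [← hK, mem_inf, mem_inf]
    constructor
    · rintro ⟨h1, h2⟩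
      exact ⟨(mem_normalizer_iff.mp (sc_norm Ms hdMs) a).mp h1, mul_mem (mul_mem hdM h2) (inv_mem hdM)⟩
    · rintro ⟨h1, h2⟩
      refine ⟨(mem_normalizer_iff.mp (sc_norm Ms hdMs) a).mpr h1, ?_⟩
      have : a = d⁻¹ * (d * a * d⁻¹) * d := by group
      rw [this]
      exact mul_mem (mul_mem (inv_mem hdM) h2) hdM
  · exact _root_.sup_le (le_inf h.le hp.le) (le_inf (BG147.ks_le M K) hp.ks_le)

/-- `K*` is a Hall `σ(M)`-subgroup of `M*`. -/
theorem hall_sigma (hp : Partner M K Ms) (h : PP M K) (h30 : H1430 G) (h31 : H1431 G)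
    (h78 : H1378 G) : IsPiHallOf (sigma M) (ks M K) Ms := by
  refine ⟨hp.ks_le, fun p hpp hd => sc_primes M hpp (hd.trans (card_dvd_of_le (ks_le_sc M K))), ?_⟩
  intro q hq hqσ hqd
  haveI : Fact q.Prime := ⟨hq⟩
  have hqσ' : q ∉ sigma Ms := hp.sigma_disj h h30 h31 h78 hqσ
  have hqκ : q ∉ kappa Ms := fun hk => hp.hall.2.2 q hq hk hqd
  have hpp := hp.pp h h30
  obtain ⟨U, hUc, hUH, hUn, -⟩ := (h30 Ms hpp.coatom (ks M K) hpp.hall hpp.ne).2.1
  have hqMs : q ∣ Nat.card Ms := by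
    rw [← Helper23.card_mul_relIndex hp.ks_le]
    exact Dvd.dvd.mul_left hqd _
  have hqU : q ∣ Nat.card U := by
    rw [← Helper23.card_mul_relIndex hUH.1] at hqMs
    rcases hq.dvd_mul.mp hqMs with h1 | h1
    · exact h1
    · exact absurd h1 (hUH.2.2 q hq ⟨hq, hqκ, hqσ'⟩)
  obtain ⟨u, hu⟩ := exists_prime_orderOf_dvd_card' (G := U) q hqU
  -- the subgroup of the elements of `U` of order dividing `q`
  let Q : Subgroup G :=
    { carrier := {v | v ∈ U ∧ v ^ q = 1}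
      one_mem' := ⟨U.one_mem, one_pow q⟩
      mul_mem' := by
        rintro a b ⟨ha, ha'⟩ ⟨hb, hb'⟩
        refine ⟨U.mul_mem ha hb, ?_⟩
        have hc : Commute a b := by
          have := hUc.is_comm.comm (⟨a, ha⟩ : U) ⟨b, hb⟩
          exact congrArg Subtype.val this
        rw [hc.mul_pow, ha', hb', one_mul]
      inv_mem' := by
        rintro a ⟨ha, ha'⟩
        exact ⟨U.inv_mem ha, by rw [inv_pow, ha', inv_one]⟩ }
  have hQq : IsPGroup q Q := by
    rintro ⟨v, hv⟩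
    exact ⟨1, Subtype.ext (by simpa using hv.2)⟩
  have hQn : ks M K ≤ normalizer (Q : Set G) := by
    intro t ht
    rw [mem_normalizer_iff]
    intro v
    have htU := mem_normalizer_iff.mp (hUn ht) v
    constructor
    · rintro ⟨h1, h2⟩
      exact ⟨htU.mp h1, by rw [conj_pow, h2]; group⟩
    · rintro ⟨h1, h2⟩
      refine ⟨htU.mpr h1, ?_⟩
      rw [conj_pow] at h2
      have := congrArg (fun z => t⁻¹ * z * t) h2
      simpa [mul_assoc] using this
  have hY : Q ⊔ ks M K ≤ sigmaCore M := by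
    apply (h31 M h.coatom K h.hall h.ne).2.2.2
    · intro p hpp' hd
      rcases hpp'.dvd_mul.mp (hd.trans (Helper22.card_sup_dvd hQn)) with h1 | h1
      · obtain ⟨n, hn⟩ := hQq.exists_card_eq
        rw [hn] at h1
        have := (Nat.prime_dvd_prime_iff_eq hpp' hq).mp (hpp'.dvd_of_dvd_pow h1)
        rw [this]; exact hqσ
      · exact sc_primes M hpp' (h1.trans (card_dvd_of_le (ks_le_sc M K)))
    · rw [inf_eq_right.mpr le_sup_right]
      exact h.ks_ne_bot h30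
  have huQ : (u : G) ∈ Q := by
    refine ⟨u.2, ?_⟩
    have := pow_orderOf_eq_one u
    rw [hu] at this
    exact congrArg Subtype.val this
  have hu1 : (u : G) ∈ ks M K := by
    rw [← hp.sc_inf h h30 h31 h78]
    exact ⟨hY (le_sup_left (a := Q) huQ), hUH.1 u.2⟩
  have hqk : q ∣ Nat.card (ks M K) := by
    have := orderOf_dvd_card_of_mem hu1
    rwa [Subgroup.orderOf_coe, hu] at this
  exact hqκ (hp.hall.2.1 q hq hqk)

end Partner

end Cfsg.Agent.Lib.Helper65.BG147
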