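/-
Helper library (helper65): BG Theorem 14.7, part C.  Type `P₁`; `κ(M) ∩ τ₃(M) ≠ ∅` forces type `P₁`;
`κ(M) = τ₁(M)` for abelian `K`; a Hall `κ(M)`-subgroup is a Z-group.
-/
import Cfsg.Agent.Lib.Helper65.BG147b
import Cfsg.Agent.Lib.Helper62.HallCoprime
import Cfsg.Agent.Lib.Helper1.FrobComplement
import Cfsg.Agent.S1415

set_option autoImplicit false

namespace Cfsg.Agent.Lib.Helper65.BG147

open Subgroup Cfsg
open Cfsg.Agent.Lib
open Cfsg.Agent.Lib.Helper24 Cfsg.Agent.Lib.Helper34 Cfsg.Agent.Lib.Helper31.BG11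
open Cfsg.Agent.Lib.Helper34.BGRows
open scoped commutatorElement

universe u

variable {G : Type u} [Group G] [Finite G]

/-- `M` is of type `P₁` (or `F` with `M = M_σ`...): every prime divisor of `|M|` lies in `σ(M) ∪ κ(M)`. -/
def P1 (M : Subgroup G) : Prop :=
  ∀ q : ℕ, q.Prime → q ∣ Nat.card M → q ∉ sigma M → q ∈ kappa M

theorem cyclic_unique {C A B : Subgroup G} (hC : IsCyclic C) (hA : A ≤ C) (hB : B ≤ C)
    (h : Nat.card A = Nat.card B) : A = B := by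
  haveI := hC
  have h1 : A.subgroupOf C = B.subgroupOf C := by
    apply Helper1.FrobComplement.eq_of_card_eq_of_isCyclic
    rw [Nat.card_congr (subgroupOfEquivOfLe hA).toEquiv, Nat.card_congr (subgroupOfEquivOfLe hB).toEquiv]
    exact h
  have h2 := subgroupOf_inj.mp h1
  rwa [inf_of_le_left hA, inf_of_le_left hB] at h2

namespace PP

variable {M K : Subgroup G}

/-- If `κ(M) ∩ τ₃(M) ≠ ∅` then a complement `E ≥ K` of `M_σ` lies in `K K*`. -/
theorem exists_compl_of_tau3 (h : PP M K) (hG : IsMinSimpleOddOrder G) (h30 : H1430 G) {p : ℕ}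
    (hκ : p ∈ kappa M) (hτ : p ∈ tau3 M) :
    ∃ E, IsComplIn E (sigmaCore M) M ∧ K ≤ E ∧ E ≤ K ⊔ ks M K := by
  have hU := Helper10.BG124.ut hG
  have hp : p.Prime := hκ.1
  haveI : Fact p.Prime := ⟨hp⟩
  obtain ⟨E, hE, hKE⟩ := BG13.exists_compl_ge hG hU h.coatom h.le
    (fun r hr hd => (h.hall.2.1 r hr hd).2.2.1)
  refine ⟨E, hE, hKE, ?_⟩
  have hEtop : E ≠ ⊤ := ne_top_of_le_ne_top h.coatom.1 hE.1
  obtain ⟨E3, hE3⟩ := Helper62.exists_isPiHallOf (tau3 M) E (MS_solvable hG hEtop)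
  obtain ⟨hcyc, -, hnorm⟩ := (Cfsg.Agent.S1415.result hG M h.coatom E hE).2.2 E3 hE3
  -- `p` divides `|K|`
  have hpK : p ∣ Nat.card K := by
    have h1 := hκ.2.1
    rw [← Helper23.card_mul_relIndex h.le] at h1
    rcases hp.dvd_mul.mp h1 with h1 | h1
    · exact h1
    · exact absurd h1 (h.hall.2.2 p hp hκ)
  have hpE3 : p ∣ Nat.card E3 := by
    have h1 : p ∣ Nat.card E := hpK.trans (card_dvd_of_le hKE)
    rw [← Helper23.card_mul_relIndex hE3.1] at h1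
    rcases hp.dvd_mul.mp h1 with h1 | h1
    · exact h1
    · exact absurd h1 (hE3.2.2 p hp hτ)
  obtain ⟨x, hx⟩ := exists_prime_orderOf_dvd_card' (G := E3) p hpE3
  set X : Subgroup G := zpowers (x : G) with hXdef
  have hXc : Nat.card X = p := by rw [hXdef, Nat.card_zpowers, Subgroup.orderOf_coe, hx]
  have hXE3 : X ≤ E3 := zpowers_le.mpr x.2
  have hXn : E ≤ normalizer (X : Set G) := by
    intro e he
    apply mem_normalizer_of_map_conj_eq
    apply cyclic_unique hcyc _ hXE3 (card_map_conj e X)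
    have h1 := cj_mono e hXE3
    rwa [cj_of_mem_normalizer (hnorm he)] at h1
  have hXp : IsPGroup p X := IsPGroup.of_card (n := 1) (by rw [hXc, pow_one])
  -- `X ≤ K`
  obtain ⟨Q, hQK, -⟩ := exists_isSylowIn_ge (p := p) (bot_le : (⊥ : Subgroup G) ≤ K) IsPGroup.of_bot
  have hQM : IsSylowIn p Q M := by
    refine ⟨hQK.1.trans h.le, hQK.2.1, ?_⟩
    rw [← relIndex_mul_relIndex Q K M hQK.1 h.le]
    intro hd
    rcases hp.dvd_mul.mp hd with hd | hd
    · exact hQK.2.2 hd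
    · exact h.hall.2.2 p hp hκ hd
  have hQE : Q ≤ E := hQK.1.trans hKE
  have hXQ : Q = X ⊔ Q :=
    hQM.eq_of_le (_root_.sup_le ((hXE3.trans hE3.1).trans hE.1) hQM.1)
      (Helper22.isPGroup_sup (hQE.trans hXn) hXp hQK.2.1) le_sup_right
  have hXK : X ≤ K := by
    refine le_trans ?_ hQK.1
    rw [hXQ]; exact le_sup_left
  rw [← h.inf_normalizer_of_prime h30 hXK (by rw [hXc]; exact hp)]
  exact le_inf hE.1 hXn

theorem P1_of_tau3 (h : PP M K) (hG : IsMinSimpleOddOrder G) (h30 : H1430 G) {p : ℕ}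
    (hκ : p ∈ kappa M) (hτ : p ∈ tau3 M) : P1 M := by
  obtain ⟨E, hE, -, hEZ⟩ := h.exists_compl_of_tau3 hG h30 hκ hτ
  intro q hq hqM hqσ
  have hns : ¬ q ∣ Nat.card (sigmaCore M) := fun hd => hqσ (sc_primes M hq hd)
  rw [← Helper23.complIn_card_mul hE] at hqM
  rcases hq.dvd_mul.mp hqM with h1 | h1
  · have h2 := h1.trans (card_dvd_of_le hEZ)
    rw [h.card_sup] at h2
    rcases hq.dvd_mul.mp h2 with h3 | h3
    · exact h.hall.2.1 q hq h3
    · exact absurd (h3.trans (card_dvd_of_le (ks_le_sc M K))) hns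
  · exact absurd h1 hns

theorem not_dvd_commutator (h : PP M K) (hG : IsMinSimpleOddOrder G) (h30 : H1430 G)
    (hP : ¬ P1 M) {p : ℕ} (hκ : p ∈ kappa M) : ¬ p ∣ Nat.card ↥⁅M, M⁆ := fun hd =>
  hP (h.P1_of_tau3 hG h30 hκ ⟨hκ.1, hκ.2.2.1, hd, Helper20.BG14.kappa_rank_one hκ⟩)

/-- If `M` is not of type `P₁` then `K` is abelian. -/
theorem comm_of_not_P1 (h : PP M K) (hG : IsMinSimpleOddOrder G) (h30 : H1430 G) (hP : ¬ P1 M)
    {a b : G} (ha : a ∈ K) (hb : b ∈ K) : a * b = b * a := by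
  have hcop : (Nat.card K).Coprime (Nat.card ↥⁅M, M⁆) := by
    apply Nat.coprime_of_dvd
    intro p hp h1 h2
    exact h.not_dvd_commutator hG h30 hP (h.hall.2.1 p hp h1) h2
  have hd : K ⊓ ⁅M, M⁆ = ⊥ := (disjoint_of_coprime_natCard hcop).eq_bot
  have h1 : ⁅a, b⁆ ∈ K ⊓ ⁅M, M⁆ :=
    mem_inf.mpr ⟨by rw [commutatorElement_def]; exact mul_mem (mul_mem (mul_mem ha hb) (inv_mem ha)) (inv_mem hb),
      commutator_mem_commutator (h.le ha) (h.le hb)⟩
  rw [hd, mem_bot] at h1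
  exact commutatorElement_eq_one_iff_mul_comm.mp h1

/-- A Hall `κ(M)`-subgroup has cyclic Sylow subgroups. -/
theorem isZGroup (h : PP M K) : IsZGroup K := by
  refine ⟨fun p hp P => ?_⟩
  haveI : Fact p.Prime := ⟨hp⟩
  by_cases hd : p ∣ Nat.card K
  · have hκ := h.hall.2.1 p hp hd
    have hPm : IsPGroup p ((P : Subgroup K).map K.subtype) := P.2.map _
    obtain ⟨Q, hQ, hPQ⟩ := exists_isSylowIn_ge ((map_subtype_le (P : Subgroup K)).trans h.le) hPm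
    haveI h1 : IsCyclic (hQ.toSylow : Subgroup M) := (hκ.2.2.2 hQ.toSylow).1
    rw [hQ.coe_toSylow] at h1
    haveI h2 : IsCyclic Q := isCyclic_of_surjective (subgroupOfEquivOfLe hQ.1)
      (subgroupOfEquivOfLe hQ.1).surjective
    haveI h3 : IsCyclic ((P : Subgroup K).map K.subtype) := Subgroup.isCyclic_of_le hPQ
    exact isCyclic_of_surjective ((P : Subgroup K).equivMapOfInjective K.subtype
      K.subtype_injective).symm ((P : Subgroup K).equivMapOfInjective K.subtype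
      K.subtype_injective).symm.surjective
  · obtain ⟨n, hn⟩ := P.2.exists_card_eq
    have h1 : Nat.card (P : Subgroup K) ∣ Nat.card K := card_subgroup_dvd_card _
    have h2 : n = 0 := by
      by_contra hn0
      apply hd
      rw [hn] at h1
      exact (dvd_pow_self p hn0).trans h1
    rw [h2, pow_zero] at hn
    haveI : Subsingleton (P : Subgroup K) := (Nat.card_eq_one_iff_unique.mp hn).1
    exact isCyclic_of_subsingleton

/-- A nilpotent Hall `κ(M)`-subgroup is cyclic. -/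
theorem isCyclic_of_nilpotent (h : PP M K) (hn : Group.IsNilpotent K) : IsCyclic K := by
  haveI := h.isZGroup
  haveI := hn
  infer_instance

theorem isCyclic_of_comm (h : PP M K) (hc : ∀ a ∈ K, ∀ b ∈ K, a * b = b * a) : IsCyclic K := by
  apply h.isCyclic_of_nilpotent
  letI : CommGroup K :=
    { (inferInstance : Group K) with
      mul_comm := fun a b => Subtype.ext (hc a a.2 b b.2) }
  exact CommGroup.isNilpotent

/-- `κ(M) ⊆ τ₁(M)` for abelian `K`. -/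
theorem kappa_le_tau1 (h : PP M K) (hG : IsMinSimpleOddOrder G) (h30 : H1430 G)
    (hc : ∀ a ∈ K, ∀ b ∈ K, a * b = b * a) {p : ℕ} (hκ : p ∈ kappa M) : p ∈ tau1 M := by
  refine ⟨hκ.1, hκ.2.2.1, hκ.2.1, ?_, Helper20.BG14.kappa_rank_one hκ⟩
  intro hd
  obtain ⟨E, hE, hKE, hEZ⟩ := h.exists_compl_of_tau3 hG h30 hκ
    ⟨hκ.1, hκ.2.2.1, hd, Helper20.BG14.kappa_rank_one hκ⟩
  -- `E = K`
  have hEK : E ≤ K := by
    intro e he
    obtain ⟨a, ha, b, hb, rfl⟩ := mem_sup.mp (hEZ he)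
    have h1 : b ∈ E ⊓ sigmaCore M := by
      refine mem_inf.mpr ⟨?_, ks_le_sc M K hb⟩
      have := E.mul_mem (E.inv_mem (hKE ha)) he
      simpa using this
    rw [hE.2.2.1, mem_bot] at h1
    rw [h1, mul_one]; exact ha
  -- `M' ≤ M_σ`
  have hM' : ⁅M, M⁆ ≤ sigmaCore M := by
    rw [commutator_le]
    intro g₁ hg₁ g₂ hg₂
    obtain ⟨a₁, ha₁, n₁, hn₁, rfl⟩ := hE.2.2.2 g₁ hg₁
    obtain ⟨a₂, ha₂, n₂, hn₂, rfl⟩ := hE.2.2.2 g₂ hg₂
    have hcomm : a₁ * a₂ = a₂ * a₁ := hc a₁ (hEK ha₁) a₂ (hEK ha₂)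
    have hN : ∀ m ∈ M, ∀ n ∈ sigmaCore M, m * n * m⁻¹ ∈ sigmaCore M := fun m hm n hn =>
      (mem_normalizer_iff.mp (sc_norm M hm) n).mp hn
    have e : ⁅a₁ * n₁, a₂ * n₂⁆ = (a₁ * n₁ * a₁⁻¹) * ((a₁ * a₂) * (n₂ * n₁⁻¹) * (a₁ * a₂)⁻¹) *
        ((a₁ * a₂ * a₁⁻¹) * n₂⁻¹ * (a₁ * a₂ * a₁⁻¹)⁻¹) * (a₁ * a₂ * a₁⁻¹ * a₂⁻¹) := by
      rw [commutatorElement_def]; group
    have e2 : a₁ * a₂ * a₁⁻¹ * a₂⁻¹ = 1 := by rw [hcomm]; group
    rw [e, e2, mul_one]
    have hA₁ := hE.1 ha₁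
    have hA₂ := hE.1 ha₂
    exact mul_mem (mul_mem (hN _ hA₁ _ hn₁) (hN _ (mul_mem hA₁ hA₂) _ (mul_mem hn₂ (inv_mem hn₁))))
      (hN _ (mul_mem (mul_mem hA₁ hA₂) (inv_mem hA₁)) _ (inv_mem hn₂))
  exact hκ.2.2.1 (sc_primes M hκ.1 (hd.trans (card_dvd_of_le hM')))

/-- `τ₁(M) ⊆ κ(M)` when `K ≠ 1`. -/
theorem tau1_le_kappa (h : PP M K) (h30 : H1430 G) {p : ℕ} (hτ : p ∈ tau1 M) : p ∈ kappa M := by
  by_contra hκ
  obtain ⟨hp, hσ, hpM, hpM', -⟩ := hτ
  obtain ⟨U, -, hUH, hUn, hUc⟩ := (h30 M h.coatom K h.hall h.ne).2.1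
  have hpU : p ∣ Nat.card U := by
    rw [← Helper23.card_mul_relIndex hUH.1] at hpM
    rcases hp.dvd_mul.mp hpM with h1 | h1
    · exact h1
    · exact absurd h1 (hUH.2.2 p hp ⟨hp, hκ, hσ⟩)
  obtain ⟨a, ha, ha1⟩ := exists_mem_ne_one h.ne
  have haU : ∀ u ∈ U, a * u * a⁻¹ ∈ U := fun u hu => (mem_normalizer_iff.mp (hUn ha) u).mp hu
  let f : U → U := fun u => ⟨(u : G)⁻¹ * (a * u * a⁻¹), U.mul_mem (U.inv_mem u.2) (haU u u.2)⟩
  have hf : Function.Injective f := by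
    intro u v huv
    have h1 : (u : G)⁻¹ * (a * u * a⁻¹) = (v : G)⁻¹ * (a * v * a⁻¹) := congrArg Subtype.val huv
    have h2 : (v : G) * (u : G)⁻¹ = a * ((v : G) * (u : G)⁻¹) * a⁻¹ := by
      have h3 : (v : G) * ((u : G)⁻¹ * (a * u * a⁻¹)) * (a * u * a⁻¹)⁻¹ =
          (v : G) * ((v : G)⁻¹ * (a * v * a⁻¹)) * (a * u * a⁻¹)⁻¹ := by rw [h1]
      have h4 : (v : G) * ((u : G)⁻¹ * (a * u * a⁻¹)) * (a * u * a⁻¹)⁻¹ = (v : G) * (u : G)⁻¹ := by
        group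
      have h5 : (v : G) * ((v : G)⁻¹ * (a * v * a⁻¹)) * (a * u * a⁻¹)⁻¹ =
          a * ((v : G) * (u : G)⁻¹) * a⁻¹ := by group
      exact h4.symm.trans (h3.trans h5)
    have h6 : (v : G) * (u : G)⁻¹ ∈ U ⊓ centralizer ({a} : Set G) := by
      refine mem_inf.mpr ⟨U.mul_mem v.2 (U.inv_mem u.2), ?_⟩
      rw [Helper20.BG14.mem_centralizer_singleton]
      have := congrArg (fun z => z * a) h2
      simpa [mul_assoc] using this.symm
    rw [hUc a ha ha1, mem_bot] at h6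
    apply Subtype.ext
    exact (mul_inv_eq_one.mp h6).symm
  have hs : Function.Surjective f := Finite.injective_iff_surjective.mp hf
  have hUM' : U ≤ ⁅M, M⁆ := by
    intro u hu
    obtain ⟨v, hv⟩ := hs ⟨u, hu⟩
    have h1 : (v : G)⁻¹ * (a * v * a⁻¹) = u := congrArg Subtype.val hv
    have h2 : ⁅(v : G)⁻¹, a⁆ = u := by rw [← h1, commutatorElement_def]; group
    rw [← h2]
    exact commutator_mem_commutator (M.inv_mem (hUH.1 v.2)) (h.le ha)
  exact hpM' (hpU.trans (card_dvd_of_le hUM'))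

end PP

end Cfsg.Agent.Lib.Helper65.BG147
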