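/-
Helper library (helper65): BG Theorem 14.7, part D.  The counting argument for a pair of partners
(`M` and `M*` are not both of type `P₁`), cyclicity of `K*`, and the statement of row S1434.
-/
import Cfsg.Agent.Lib.Helper65.BG147c
import Cfsg.Agent.Lib.Helper34.BG14Pa
import Cfsg.Agent.Lib.Helper20.BG144g
import Cfsg.Agent.S1429

set_option autoImplicit false

namespace Cfsg.Agent.Lib.Helper65.BG147

open Subgroup Cfsg
open Cfsg.Agent.Lib
open Cfsg.Agent.Lib.Helper24 Cfsg.Agent.Lib.Helper34 Cfsg.Agent.Lib.Helper31.BG11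
open Cfsg.Agent.Lib.Helper34.BGRows
open scoped commutatorElement

universe u

variable {G : Type u} [Group G] [Finite G]

theorem num_two {N k s m m' i i' A T T' n : ℕ} (hN : 0 < N) (h1 : i * (m * k) = N)
    (h2 : i' * (m' * s) = N) (hT : T + i = m * i) (hT' : T' + i' = m' * i')
    (hA : k * s * A = n * N) (hn : n + (k + s) = k * s + 1) (hm : 3 * s ≤ m) (hm' : 3 * k ≤ m')
    (hk : 0 < k) (hs : 0 < s) (hsum : A + T + T' ≤ N) : False := by
  zify at *
  have hm0 : (0 : ℤ) < m := by linarith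
  have hm0' : (0 : ℤ) < m' := by linarith
  have key : (k : ℤ) * s * m * m' * (A + T + T') =
      N * (n * m * m' + s * m' * (m - 1) + k * m * (m' - 1)) := by
    have hT2 : (T : ℤ) = (m - 1) * i := by linarith
    have hT2' : (T' : ℤ) = (m' - 1) * i' := by linarith
    rw [hT2, hT2']
    linear_combination ((m : ℤ) * m') * hA + ((s : ℤ) * m' * (m - 1)) * h1 +
      ((k : ℤ) * m * (m' - 1)) * h2
  have hpos : (0 : ℤ) < k * s * m * m' := by positivity
  have h3 : (k : ℤ) * s * m * m' * (A + T + T') ≤ k * s * m * m' * N :=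
    mul_le_mul_of_nonneg_left hsum hpos.le
  rw [key] at h3
  have h4 : (n : ℤ) * m * m' + s * m' * (m - 1) + k * m * (m' - 1) ≤ k * s * m * m' := by
    by_contra hcon
    push_neg at hcon
    have := mul_lt_mul_of_pos_left hcon hN
    linarith
  have hn' : (n : ℤ) = k * s + 1 - k - s := by linarith
  rw [hn'] at h4
  have h5 : (m : ℤ) * m' ≤ s * m' + k * m := by nlinarith
  have h6 : 3 * (s : ℤ) * m' ≤ m * m' := by nlinarith
  have h7 : 3 * (k : ℤ) * m ≤ m * m' := by nlinarith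
  have h8 : (0 : ℤ) < m * m' := by positivity
  linarith

namespace PP

variable {M K : Subgroup G}

theorem three_mul_le (h : PP M K) (hG : IsMinSimpleOddOrder G) (h30 : H1430 G) (h31 : H1431 G) :
    3 * Nat.card (ks M K) ≤ Nat.card (sigmaCore M) := by
  have hc : Nat.card (ks M K) ≠ 1 := fun hc => h.ks_ne_bot h30 (card_eq_one.mp hc)
  obtain ⟨p, hp, hpd⟩ := Nat.exists_prime_and_dvd hc
  haveI : Fact p.Prime := ⟨hp⟩
  obtain ⟨S⟩ : Nonempty (Sylow p (sigmaCore M)) := inferInstance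
  have hS := ((h31 M h.coatom K h.hall h.ne).2.2.1 p hp hpd S).2.2
  have hne : (ks M K).relIndex (sigmaCore M) ≠ 1 := by
    intro e
    exact hS ((map_subtype_le _).trans (relIndex_eq_one.mp e))
  have hmul := Helper23.card_mul_relIndex (ks_le_sc M K)
  have hodd : Odd ((ks M K).relIndex (sigmaCore M)) := by
    have := MS_odd hG (sigmaCore M)
    rw [← hmul] at this
    exact (Nat.odd_mul.mp this).2
  have hpos : 0 < (ks M K).relIndex (sigmaCore M) := hodd.pos
  have h3 : 3 ≤ (ks M K).relIndex (sigmaCore M) := by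
    obtain ⟨t, ht⟩ := hodd
    omega
  calc 3 * Nat.card (ks M K) = Nat.card (ks M K) * 3 := by ring
    _ ≤ Nat.card (ks M K) * (ks M K).relIndex (sigmaCore M) := Nat.mul_le_mul_left _ h3
    _ = Nat.card (sigmaCore M) := hmul

theorem card_of_P1 (h : PP M K) (hG : IsMinSimpleOddOrder G) (hP : P1 M) :
    Nat.card M = Nat.card (sigmaCore M) * Nat.card K := by
  have hU := Helper10.BG124.ut hG
  have hn : K ≤ normalizer (sigmaCore M : Set G) := h.le.trans (sc_norm M)
  have hle : sigmaCore M ⊔ K ≤ M := _root_.sup_le (sc_le M) h.le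
  have heq : sigmaCore M ⊔ K = M := by
    apply BG13.eq_of_forall_not_dvd_relIndex hle
    intro q hq hd
    have hqM : q ∣ Nat.card M := by
      rw [← Helper23.card_mul_relIndex hle]
      exact Dvd.dvd.mul_left hd _
    by_cases hσ : q ∈ sigma M
    · exact (sc_hall hG hU h.coatom).2.2 q hq hσ (hd.trans (relIndex_dvd_of_le_left M le_sup_left))
    · exact h.hall.2.2 q hq (hP q hq hqM hσ) (hd.trans (relIndex_dvd_of_le_left M le_sup_right))
  have hc : Nat.card (sigmaCore M ⊔ K : Subgroup G) = Nat.card (sigmaCore M) * Nat.card K := by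
    apply Nat.dvd_antisymm (Helper22.card_sup_dvd hn)
    exact h.coprime_sc.symm.mul_dvd_of_dvd_of_dvd (card_dvd_of_le le_sup_left)
      (card_dvd_of_le le_sup_right)
  rw [← hc, heq]

/-- The conjugates of `Ẑ` avoid `M̃`. -/
theorem zhat_conj_not_mem_tilde (h : PP M K) (h31 : H1431 G) {z : G} (hz : z ∈ zhat M K) (g : G) :
    g * z * g⁻¹ ∉ tildeOf M ((sigmaCore M : Set G) \ {1}) := by
  rintro ⟨a, ⟨ha, ha1⟩, r, hr, y, he⟩
  have ha1' : a ≠ 1 := fun e => ha1 (by simpa using e)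
  have ha' : a ∈ sigmaCore M := ha
  obtain ⟨c, hc⟩ : ∃ c, c = g⁻¹ * y := ⟨_, rfl⟩
  have hz' : z = c * (a * r) * c⁻¹ := by
    calc z = g⁻¹ * (g * z * g⁻¹) * g := by group
      _ = g⁻¹ * (y * (a * r) * y⁻¹) * g := by rw [he]
      _ = c * (a * r) * c⁻¹ := by rw [hc]; group
  have har : a * r = r * a :=
    Helper20.BG14.mem_centralizer_singleton.mp (Helper20.BG14.supportR_le_centralizer M a hr)
  have hcomm : (c * a * c⁻¹) * z * (c * a * c⁻¹)⁻¹ = z := by
    rw [hz']
    calc (c * a * c⁻¹) * (c * (a * r) * c⁻¹) * (c * a * c⁻¹)⁻¹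
        = c * (a * (a * r) * a⁻¹) * c⁻¹ := by group
      _ = c * (a * (r * a) * a⁻¹) * c⁻¹ := by rw [har]
      _ = c * (a * r) * c⁻¹ := by group
  have hZ : c * a * c⁻¹ ∈ K ⊔ ks M K := h.zhat_ti h31 hz (by rw [hcomm]; exact hz.1)
  obtain ⟨a₁, ha₁, b₁, hb₁, hab⟩ := mem_sup.mp hZ
  have hpow : (c * a * c⁻¹) ^ Nat.card (sigmaCore M) = 1 := by
    rw [conj_pow, pow_card_eq_one_of_mem ha']; group
  have ha₁one : a₁ = 1 := by
    by_contra hne
    have h1 : (a₁ * b₁) ^ Nat.card (sigmaCore M) = a₁ ^ Nat.card (sigmaCore M) := by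
      have hcm : Commute a₁ b₁ := comm ha₁ hb₁
      rw [hcm.mul_pow, pow_card_eq_one_of_mem (ks_le_sc M K hb₁), mul_one]
    rw [hab, hpow] at h1
    exact pow_ne_one_of_coprime hne
      (h.coprime_sc.coprime_dvd_left (orderOf_dvd_card_of_mem ha₁)) h1.symm
  have hks : c * a * c⁻¹ ∈ ks M K := by rw [← hab, ha₁one, one_mul]; exact hb₁
  have hne1 : c * a * c⁻¹ ≠ 1 := by
    intro e
    apply ha1'
    have := congrArg (fun t => c⁻¹ * t * c) e
    simpa [mul_assoc] using this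
  have hcM : c ∈ M := h.mem_of_mem_cj h31 hks hne1 (conj_mem_map_conj (sc_le M ha'))
  have hCa : centralizer ({a} : Set G) ≤ M := by
    intro t ht
    have h1 : a * t = t * a := Helper20.BG14.mem_centralizer_singleton.mp ht
    have h2 : c * t * c⁻¹ ∈ centralizer ({c * a * c⁻¹} : Set G) := by
      rw [Helper20.BG14.mem_centralizer_singleton]
      calc c * a * c⁻¹ * (c * t * c⁻¹) = c * (a * t) * c⁻¹ := by group
        _ = c * (t * a) * c⁻¹ := by rw [h1]
        _ = c * t * c⁻¹ * (c * a * c⁻¹) := by group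
    have h3 := h.centralizer_le h31 hks hne1 h2
    have h4 : t = c⁻¹ * (c * t * c⁻¹) * c := by group
    rw [h4]
    exact mul_mem (mul_mem (inv_mem hcM) h3) hcM
  have hr1 : r = 1 := by
    rw [Helper20.BG14.supportR_of_le hCa] at hr
    exact mem_bot.mp hr
  apply hz.2
  right
  rw [hz', hr1, mul_one]
  exact hks

theorem sup_le_centralizer (hK : ∀ a ∈ K, ∀ b ∈ K, a * b = b * a)
    (hL : ∀ a ∈ ks M K, ∀ b ∈ ks M K, a * b = b * a) {z : G} (hz : z ∈ K ⊔ ks M K) :
    K ⊔ ks M K ≤ centralizer ({z} : Set G) := by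
  obtain ⟨a, ha, b, hb, rfl⟩ := mem_sup.mp hz
  intro t ht
  obtain ⟨a', ha', b', hb', rfl⟩ := mem_sup.mp ht
  rw [Helper20.BG14.mem_centralizer_singleton]
  have c1 : Commute a a' := hK a ha a' ha'
  have c2 : Commute a b' := comm ha hb'
  have c3 : Commute b a' := (comm ha' hb).symm
  have c4 : Commute b b' := hL b hb b' hb'
  exact (c1.mul_right c2).mul_left (c3.mul_right c4)

end PP

namespace Partner

variable {M K Ms : Subgroup G}

theorem zhat_symm (hp : Partner M K Ms) : zhat Ms (ks M K) = zhat M K := by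
  show (↑(ks M K ⊔ ks Ms (ks M K)) : Set G) \ ((ks M K : Set G) ∪ ↑(ks Ms (ks M K))) = _
  rw [hp.ks_eq, sup_comm, Set.union_comm]

/-- BG 14.7(f): `M` and `M*` are not both of type `P₁`. -/
theorem not_both_P1 (hp : Partner M K Ms) (h : PP M K) (hG : IsMinSimpleOddOrder G) (h30 : H1430 G)
    (h31 : H1431 G) (h78 : H1378 G) (h75 : H1375 G) (h77 : H1377 G) (h33 : H1433 G) :
    ¬ (P1 M ∧ P1 Ms) := by
  rintro ⟨hP, hPs⟩
  have hpp := hp.pp h h30
  obtain ⟨A, hA⟩ : ∃ A : Set G, A = {a : G | ∃ g : G, ∃ z ∈ zhat M K, a = g * z * g⁻¹} := ⟨_, rfl⟩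
  obtain ⟨T, hT⟩ : ∃ T : Set G, T = tildeOf M ((sigmaCore M : Set G) \ {1}) := ⟨_, rfl⟩
  obtain ⟨T', hT'⟩ : ∃ T : Set G, T = tildeOf Ms ((sigmaCore Ms : Set G) \ {1}) := ⟨_, rfl⟩
  have d1 : Disjoint A T := by
    rw [Set.disjoint_left, hA, hT]
    rintro _ ⟨g, z, hz, rfl⟩ ht
    exact h.zhat_conj_not_mem_tilde h31 hz g ht
  have d2 : Disjoint A T' := by
    rw [Set.disjoint_left, hA, hT']
    rintro _ ⟨g, z, hz, rfl⟩ ht
    rw [← hp.zhat_symm] at hz
    exact hpp.zhat_conj_not_mem_tilde h31 hz g ht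
  have d3 : Disjoint T T' := by
    rw [Set.disjoint_iff_inter_eq_empty, hT, hT']
    exact BG14P.tld_disjoint h75 h78 h33 h.coatom hp.coatom (hp.not_conj h h30 h31)
  have hsum : A.ncard + T.ncard + T'.ncard ≤ Nat.card G := by
    rw [← Set.ncard_union_eq d1 (Set.toFinite _) (Set.toFinite _),
      ← Set.ncard_union_eq (Set.disjoint_union_left.mpr ⟨d2, d3⟩) (Set.toFinite _) (Set.toFinite _)]
    exact Set.ncard_le_card _
  have hTc : T.ncard + M.index = Nat.card (sigmaCore M) * M.index := by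
    rw [hT, h77 M h.coatom]
    have : 0 < Nat.card (sigmaCore M) := Nat.card_pos
    obtain ⟨m0, hm0⟩ := Nat.exists_eq_succ_of_ne_zero this.ne'
    rw [hm0]; simp; ring
  have hTc' : T'.ncard + Ms.index = Nat.card (sigmaCore Ms) * Ms.index := by
    rw [hT', h77 Ms hp.coatom]
    have : 0 < Nat.card (sigmaCore Ms) := Nat.card_pos
    obtain ⟨m0, hm0⟩ := Nat.exists_eq_succ_of_ne_zero this.ne'
    rw [hm0]; simp; ring
  have hi : M.index * (Nat.card (sigmaCore M) * Nat.card K) = Nat.card G := by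
    rw [← h.card_of_P1 hG hP]; exact M.index_mul_card
  have hi' : Ms.index * (Nat.card (sigmaCore Ms) * Nat.card (ks M K)) = Nat.card G := by
    rw [← hpp.card_of_P1 hG hPs]; exact Ms.index_mul_card
  have hcount := h.count₀ h31
  rw [← hA] at hcount
  have h3 := h.three_mul_le hG h30 h31
  have h3' := hpp.three_mul_le hG h30 h31
  rw [hp.ks_eq] at h3'
  exact num_two Nat.card_pos hi hi' hTc hTc' hcount h.ncard_zhat h3 h3' Nat.card_pos Nat.card_pos hsum

/-- `K*` is cyclic. -/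
theorem ks_cyclic (hp : Partner M K Ms) (h : PP M K) (hG : IsMinSimpleOddOrder G) (h30 : H1430 G)
    (h31 : H1431 G) (h78 : H1378 G) (h75 : H1375 G) (h77 : H1377 G) (h33 : H1433 G) :
    IsCyclic (ks M K) := by
  have hpp := hp.pp h h30
  by_cases hP : P1 M
  · by_cases hPs : P1 Ms
    · exact absurd ⟨hP, hPs⟩ (hp.not_both_P1 h hG h30 h31 h78 h75 h77 h33)
    · exact hpp.isCyclic_of_comm (fun a ha b hb => hpp.comm_of_not_P1 hG h30 hPs ha hb)
  · have hP' := hP
    unfold P1 at hP'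
    push_neg at hP'
    obtain ⟨q, hq, hqM, hqσ, hqκ⟩ := hP'
    haveI : Fact q.Prime := ⟨hq⟩
    obtain ⟨S⟩ : Nonempty (Sylow q M) := inferInstance
    have hn := (Cfsg.Agent.S1429.result hG M h.coatom hP q hqM
      (fun hh => hh.elim hqσ hqκ) S).2.2
    exact hpp.isCyclic_of_nilpotent (isNilpotent_of_le (ks_le_sc M K) hn)

end Partner

theorem comm_of_isCyclic {H : Subgroup G} (hH : IsCyclic H) {a b : G} (ha : a ∈ H) (hb : b ∈ H) :
    a * b = b * a := by
  haveI := hH
  have := (IsCyclic.commGroup (α := H)).mul_comm ⟨a, ha⟩ ⟨b, hb⟩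
  exact congrArg Subtype.val this

/-- Row S1434 from the frozen rows S1430 S1431 S1378 S1375 S1377 S1433. -/
theorem s1434 (hG : IsMinSimpleOddOrder G) (h30 : H1430 G) (h31 : H1431 G) (h78 : H1378 G)
    (h75 : H1375 G) (h77 : H1377 G) (h33 : H1433 G) : H1434 G := by
  intro M hM K U hKU hK1 Mstar hMstar hKst hKstH
  have h : PP M K := ⟨hM, hKU.hall, hK1⟩
  have hp : Partner M K Mstar := ⟨hMstar, hKst, hKstH⟩
  have hpp := hp.pp h h30
  have hKc : ∀ a ∈ K, ∀ b ∈ K, a * b = b * a := fun a ha b hb => comm_of_isCyclic hKU.cyclic ha hb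
  have hLc : ∀ a ∈ ks M K, ∀ b ∈ ks M K, a * b = b * a := fun a ha b hb =>
    comm_of_isCyclic (hp.ks_cyclic h hG h30 h31 h78 h75 h77 h33) ha hb
  refine ⟨?_, hp.hall_sigma h h30 h31 h78, ?_, fun g hg z hz => h.zhat_not_mem_cj h31 hz hg,
    h.count hG h30 h31, h.half_lt hG h30 h31⟩
  · ext p
    exact ⟨fun hκ => h.kappa_le_tau1 hG h30 hKc hκ, fun hτ => h.tau1_le_kappa h30 hτ⟩
  · intro x hx hx1 y hy hy1
    refine ⟨?_, ?_, ?_⟩
    · apply le_antisymm (h.inf_centralizer_le h30 hx hx1)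
      exact le_inf h.sup_le (PP.sup_le_centralizer hKc hLc (le_sup_left (a := K) hx))
    · apply le_antisymm
      · have := hpp.inf_centralizer_le h30 hy hy1
        rwa [hp.ks_eq, sup_comm] at this
      · exact le_inf (_root_.sup_le hp.le hp.ks_le)
          (PP.sup_le_centralizer hKc hLc (le_sup_right (a := K) hy))
    · have hz : x * y ∈ zhat M K := h.mem_zhat.mpr ⟨x, hx, hx1, y, hy, hy1, rfl⟩
      exact le_antisymm (h.centralizer_zhat_le h31 hz) (PP.sup_le_centralizer hKc hLc hz.1)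

end Cfsg.Agent.Lib.Helper65.BG147
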