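import Cfsg.Agent.Lib.Helper31.BG11Ifc
import Cfsg.Agent.Lib.Helper31.BG11a
import Cfsg.Agent.Lib.Helper72.HH5
import Cfsg.Agent.Lib.Helper72.CoprimeC
import Cfsg.Agent.S3769

set_option autoImplicit false

namespace Cfsg.Agent.Lib.Helper65.BG11farm

open Subgroup Cfsg
open Cfsg.Agent.Lib
open Cfsg.Agent.Lib.Helper24 Cfsg.Agent.Lib.Helper34 Cfsg.Agent.Lib.Helper31.BG11

universe u

variable {G : Type u} [Group G] [Finite G]

/-- (P13) the case `p ∈ σ(L)` -/
theorem false_of_sigma (hG : IsMinSimpleOddOrder G) (hU : UT G) (h14 : H1414 G)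
    {L A Y : Subgroup G} {p q : ℕ} [Fact p.Prime] [Fact q.Prime] (hpq : p ≠ q) (hL : IsCoatom L)
    (hp : p ∈ sigma L) (hA : IsPGroup p A) (hAL : A ≤ L) (hY : IsPGroup q Y) (hYL : Y ≤ L)
    (hY1 : Y ≠ ⊥) (hYA : ⁅Y, A⁆ = Y) (hq : ¬ IsIdealPrime q G) : False := by
  have hpp : p.Prime := Fact.out
  have hqp : q.Prime := Fact.out
  have hAS : A ≤ sigmaCore L := le_sc hG hU hL hp hAL hA
  have hYS : Y ≤ sigmaCore L := by
    rw [← hYA]
    refine Subgroup.commutator_le.2 (fun y hy a ha => ?_)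
    have h1 : y * a * y⁻¹ ∈ sigmaCore L :=
      (Subgroup.mem_normalizer_iff.1 (sc_norm L (hYL hy)) a).1 (hAS ha)
    exact (sigmaCore L).mul_mem h1 ((sigmaCore L).inv_mem (hAS ha))
  -- `q` divides `|Y|`
  have hqY : q ∣ Nat.card Y := by
    obtain ⟨n, hn⟩ := (IsPGroup.iff_card).1 hY
    rw [hn]
    rcases n with _ | n
    · exfalso
      apply hY1
      rw [pow_zero] at hn
      exact (Subgroup.card_eq_one).1 hn
    · exact dvd_pow_self q (Nat.succ_ne_zero n)
  have hqL : q ∣ Nat.card L := hqY.trans (Subgroup.card_dvd_of_le hYL)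
  obtain ⟨P, N, hN, hc⟩ := h14 L hL q hqp hqL (fun h => hq h.2)
  have hNq : ¬ q ∣ Nat.card N := by
    rw [← hc.index_eq_card]
    exact P.not_dvd_index
  have hNi : ∃ m, N.index = q ^ m := by
    rw [hc.symm.index_eq_card]
    exact (IsPGroup.iff_card).1 P.isPGroup'
  obtain ⟨m, hm⟩ := hNi
  -- `p`-elements of `L_σ` lie in `N`
  have key : ∀ a : ↥(sigmaCore L), (a : G) ∈ A → a ∈ N := by
    intro a ha
    obtain ⟨k, hk⟩ := hA ⟨(a : G), ha⟩
    have hk' : a ^ p ^ k = 1 := by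
      apply Subtype.ext
      have := congrArg Subtype.val hk
      simpa using this
    have h1 : orderOf (QuotientGroup.mk' N a) ∣ p ^ k := by
      apply orderOf_dvd_of_pow_eq_one
      rw [← map_pow, hk', map_one]
    have h2 : orderOf (QuotientGroup.mk' N a) ∣ q ^ m := by
      apply orderOf_dvd_of_pow_eq_one
      rw [← map_pow, ← hm, QuotientGroup.mk'_apply, QuotientGroup.eq_one_iff]
      exact Subgroup.pow_index_mem N a
    have hcop : Nat.Coprime (p ^ k) (q ^ m) :=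
      Nat.Coprime.pow _ _ ((Nat.coprime_primes hpp hqp).2 hpq)
    have h3 : orderOf (QuotientGroup.mk' N a) = 1 := Nat.eq_one_of_dvd_coprimes hcop h1 h2
    rw [orderOf_eq_one_iff, QuotientGroup.mk'_apply, QuotientGroup.eq_one_iff] at h3
    exact h3
  have hYN : Y ≤ N.map (sigmaCore L).subtype := by
    conv_lhs => rw [← hYA]
    refine Subgroup.commutator_le.2 (fun y hy a ha => ?_)
    have ha' : (⟨a, hAS ha⟩ : ↥(sigmaCore L)) ∈ N := key _ ha
    refine ⟨⟨y, hYS hy⟩ * ⟨a, hAS ha⟩ * (⟨y, hYS hy⟩)⁻¹ * (⟨a, hAS ha⟩)⁻¹,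
      N.mul_mem (hN.conj_mem _ ha' _) (N.inv_mem ha'), rfl⟩
  apply hNq
  have h4 : Nat.card (N.map (sigmaCore L).subtype) = Nat.card N :=
    Subgroup.card_map_of_injective (Subgroup.subtype_injective _)
  rw [← h4]
  exact hqY.trans (Subgroup.card_dvd_of_le hYN)

end Cfsg.Agent.Lib.Helper65.BG11farm
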