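import Cfsg.Agent.Lib.Helper31.BG11Ifc
import Cfsg.Agent.Lib.Helper31.BG11a
import Cfsg.Agent.Lib.Helper72.HH5
import Cfsg.Agent.Lib.Helper72.CoprimeC
import Cfsg.Agent.S3769

set_option autoImplicit false

namespace Cfsg.Agent.Lib.Helper65.BG11farm

open Subgroup Cfsg
open Cfsg.Agent.Lib
open Cfsg.Agent.Lib.Helper24 Cfsg.Agent.Lib.Helper34 Cfsg.Agent.Lib.Helper31.BG11

universe u

variable {G : Type u} [Group G] [Finite G]

/-- (P3) -/
theorem nilpotent_comm_inf_cent (hG : IsMinSimpleOddOrder G) (hU : UT G) {M : Subgroup G}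
    (hM : IsCoatom M) :
    Group.IsNilpotent ↥(⁅M, M⁆ ⊓ centralizer (sigmaCore M : Set G)) := by
  have hnil := Helper24.map_commutator_le_fitting hG hU hM (sigma M)
    (fun p hp => alpha_subset_sigma hG hU hM hp) subset_rfl
  have hMM : ⁅M, M⁆ ≤ M := Subgroup.commutator_le.2 (fun a ha b hb =>
    M.mul_mem (M.mul_mem (M.mul_mem ha hb) (M.inv_mem ha)) (M.inv_mem hb))
  have hCM : ⁅M, M⁆ ⊓ centralizer (sigmaCore M : Set G) ≤ M := inf_le_left.trans hMM
  have hcomm : (commutator ↥M).map M.subtype = ⁅M, M⁆ := by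
    rw [commutator_def, Subgroup.map_commutator, ← MonoidHom.range_eq_map, Subgroup.range_subtype]
  let f1 : ↥(⁅M, M⁆ ⊓ centralizer (sigmaCore M : Set G)) →* (↥M ⧸ piCore (sigma M) ↥M) :=
    (QuotientGroup.mk' (piCore (sigma M) ↥M)).comp (Subgroup.inclusion hCM)
  have hf1 : ∀ x, f1 x ∈ (commutator ↥M).map (QuotientGroup.mk' (piCore (sigma M) ↥M)) := by
    intro x
    have hx : (x : G) ∈ (commutator ↥M).map M.subtype := by
      rw [hcomm]; exact x.2.1
    obtain ⟨y, hy, hyx⟩ := hx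
    refine ⟨y, hy, ?_⟩
    have : y = Subgroup.inclusion hCM x := Subtype.ext hyx
    rw [this]; rfl
  let f := f1.codRestrict _ hf1
  haveI := hnil
  refine _root_.isNilpotent_of_ker_le_center f ?_
  intro x hx
  have h1 : f1 x = 1 := by
    have := (MonoidHom.mem_ker).1 hx
    exact congrArg Subtype.val this
  have h2 : Subgroup.inclusion hCM x ∈ piCore (sigma M) ↥M := by
    have : QuotientGroup.mk' (piCore (sigma M) ↥M) (Subgroup.inclusion hCM x) = 1 := h1
    rwa [QuotientGroup.mk'_apply, QuotientGroup.eq_one_iff] at this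
  have h3 : (x : G) ∈ sigmaCore M := ⟨_, h2, rfl⟩
  rw [Subgroup.mem_center_iff]
  intro y
  apply Subtype.ext
  have := (Subgroup.mem_centralizer_iff.1 y.2.2) (x : G) h3
  simpa using this.symm

end Cfsg.Agent.Lib.Helper65.BG11farm
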