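import Cfsg.Agent.Lib.Helper31.BG11a
import Cfsg.Agent.Lib.Helper24.Rank2Main
import Cfsg.Agent.Lib.Helper66.AbelianIndec

set_option autoImplicit false

namespace Cfsg.Agent.Lib.Helper65.BG1211

open Subgroup Cfsg
open Cfsg.Agent.Lib
open Cfsg.Agent.Lib.Helper24 Cfsg.Agent.Lib.Helper34 Cfsg.Agent.Lib.Helper31.BG11
open Cfsg.Agent.S4381 (Inv)

section abs

variable {X A : Type*} [Group X] [Finite X] [CommGroup A] [Finite A] [MulDistribMulAction X A]
  {p : ℕ} [hp : Fact p.Prime]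

/-- abstract form of Q1 -/
theorem exists_invariant_cyclic_abs (hA : IsPGroup p A) (hcop : (Nat.card X).Coprime p) (e : ℕ)
    (hexp : ∀ a : A, a ^ p ^ (e + 1) = 1) (S : Subgroup A) (hS : Inv X S) (hcard : Nat.card S = p)
    (hSr : ∀ s ∈ S, ∃ x : A, x ^ p ^ e = s) :
    ∃ C : Subgroup A, IsCyclic C ∧ Nat.card C = p ^ (e + 1) ∧ S ≤ C ∧ Inv X C := by
  classical
  let 𝓕 : Set (Subgroup A) := {D | Inv X D ∧ D.map (powMonoidHom (p ^ e) : A →* A) = S}
  have hne : 𝓕.Nonempty := by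
    refine ⟨S.comap (powMonoidHom (p ^ e) : A →* A), Helper66.inv_comap_pow _ S hS, ?_⟩
    rw [Subgroup.map_comap_eq]
    apply inf_eq_right.2
    intro s hs
    obtain ⟨x, hx⟩ := hSr s hs
    exact ⟨x, hx⟩
  obtain ⟨D, hD, hmin⟩ := (Set.toFinite 𝓕).exists_minimal hne
  have hDinv : Inv X D := hD.1
  have hDS : D.map (powMonoidHom (p ^ e) : A →* A) = S := hD.2
  have hpure := Helper66.pure_of_minimal hA hcop e S D hDinv hDS
    (fun W hW hWS hWD => hmin (y := W) ⟨hW, hWS⟩ hWD)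
  -- a generator of `S`
  obtain ⟨s, hs1⟩ : ∃ s : S, s ≠ 1 := by
    haveI : Nontrivial S := by
      rw [← Finite.one_lt_card_iff_nontrivial, hcard]; exact hp.out.one_lt
    exact exists_ne 1
  have hsgen : ∀ t ∈ S, ∃ i : ℕ, t = (s : A) ^ i := by
    intro t ht
    have h1 : (⟨t, ht⟩ : S) ∈ Submonoid.powers s := mem_powers_of_prime_card hcard hs1
    obtain ⟨i, hi⟩ := h1
    exact ⟨i, by have := congrArg Subtype.val hi; simpa using this.symm⟩
  obtain ⟨c, hcD, hcs⟩ : ∃ c ∈ D, c ^ p ^ e = (s : A) := by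
    have : (s : A) ∈ D.map (powMonoidHom (p ^ e) : A →* A) := by rw [hDS]; exact s.2
    obtain ⟨c, hc, hcs⟩ := this
    exact ⟨c, hc, hcs⟩
  have hord : orderOf c = p ^ (e + 1) := by
    apply orderOf_eq_prime_pow
    · rw [hcs]; intro h; exact hs1 (Subtype.ext h)
    · exact hexp c
  have hstep : ∀ k : ℕ, ∀ d ∈ D, ∃ z ∈ Subgroup.zpowers c, ∃ d' ∈ D, d = z * d' ^ p ^ k := by
    intro k
    induction k with
    | zero => intro d hd; exact ⟨1, one_mem _, d, hd, by simp⟩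
    | succ k ih =>
      intro d hd
      obtain ⟨z, hz, d', hd', rfl⟩ := ih d hd
      have h1 : d' ^ p ^ e ∈ S := by rw [← hDS]; exact ⟨d', hd', rfl⟩
      obtain ⟨i, hi⟩ := hsgen _ h1
      have h2 : (d' * (c ^ i)⁻¹) ^ p ^ e = 1 := by
        rw [mul_pow, inv_pow, hi, ← hcs, ← pow_mul, ← pow_mul, mul_comm i, mul_inv_cancel]
      obtain ⟨d₁, hd₁, h3⟩ := hpure _ (D.mul_mem hd' (D.inv_mem (D.pow_mem hcD i))) h2
      refine ⟨z * (c ^ i) ^ p ^ k, Subgroup.mul_mem _ hz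
        (Subgroup.pow_mem _ (Subgroup.pow_mem _ (Subgroup.mem_zpowers c) i) _), d₁, hd₁, ?_⟩
      have h4 : d' = c ^ i * d₁ ^ p := by rw [← h3]; simp
      rw [h4, mul_pow, ← pow_mul d₁, ← pow_succ', mul_assoc]
  have hDc : D = Subgroup.zpowers c := by
    apply le_antisymm
    · intro d hd
      obtain ⟨z, hz, d', -, rfl⟩ := hstep (e + 1) d hd
      rw [hexp, mul_one]; exact hz
    · rw [Subgroup.zpowers_le]; exact hcD
  refine ⟨D, ?_, ?_, ?_, hDinv⟩
  · rw [hDc]; infer_instance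
  · rw [hDc, Nat.card_zpowers, hord]
  · rw [← hDS]
    rintro _ ⟨d, hd, rfl⟩
    exact D.pow_mem hd _

end abs

universe u

variable {G : Type u} [Group G] [Finite G]

/-- conjugation action of `H ≤ N(P)` on `P` -/
@[reducible] def conjAct {P H : Subgroup G} (hH : H ≤ normalizer (P : Set G))
    (hPab : P ≤ centralizer (P : Set G)) :
    @MulDistribMulAction H P _ (CommGroup.toGroup (G := P)
      (self := { (inferInstance : Group P) with
        mul_comm := fun a b => Subtype.ext ((mem_centralizer_iff.1 (hPab b.2) a a.2)) })).toDivInvMonoid.toMonoid where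
  smul h x := ⟨h * x * h⁻¹, (mem_normalizer_iff.1 (hH h.2) x).1 x.2⟩
  one_smul x := Subtype.ext (by show ((1 : H) : G) * x * ((1 : H) : G)⁻¹ = x; simp)
  mul_smul a b x := Subtype.ext (by
    show ((a * b : H) : G) * x * ((a * b : H) : G)⁻¹ = a * (b * x * (b : G)⁻¹) * (a : G)⁻¹
    simp [mul_assoc])
  smul_mul a x y := Subtype.ext (by
    show (a : G) * ((x : G) * y) * (a : G)⁻¹ = ((a : G) * x * (a : G)⁻¹) * ((a : G) * y * (a : G)⁻¹)
    simp [mul_assoc])
  smul_one a := Subtype.ext (by show (a : G) * ((1 : P) : G) * (a : G)⁻¹ = 1; simp)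

/-- (Q1) -/
theorem exists_invariant_cyclic {p : ℕ} [Fact p.Prime] {P H A₁ : Subgroup G} (hP : IsPGroup p P)
    (hPab : P ≤ centralizer (P : Set G)) (hH : H ≤ normalizer (P : Set G))
    (hcop : (Nat.card H).Coprime p) (e : ℕ) (hexp : ∀ x ∈ P, x ^ p ^ (e + 1) = 1)
    (hA₁ : Nat.card A₁ = p) (hA₁P : ∀ a ∈ A₁, ∃ x ∈ P, x ^ p ^ e = a)
    (hHA₁ : H ≤ normalizer (A₁ : Set G)) :
    ∃ C : Subgroup G, C ≤ P ∧ IsCyclic C ∧ Nat.card C = p ^ (e + 1) ∧ A₁ ≤ C ∧
      H ≤ normalizer (C : Set G) := by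
  letI iC : CommGroup P := { (inferInstance : Group P) with
    mul_comm := fun a b => Subtype.ext ((mem_centralizer_iff.1 (hPab b.2) a a.2)) }
  letI iA : MulDistribMulAction H P := conjAct hH hPab
  have hA₁le : A₁ ≤ P := by
    intro a ha
    obtain ⟨x, hx, rfl⟩ := hA₁P a ha
    exact P.pow_mem hx _
  have hsmul : ∀ (h : H) (x : P), ((h • x : P) : G) = h * x * (h : G)⁻¹ := fun _ _ => rfl
  obtain ⟨C, hCc, hCcard, hSC, hCinv⟩ := exists_invariant_cyclic_abs (X := H) (A := P) (p := p)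
    hP hcop e (fun a => Subtype.ext (by simpa using hexp a a.2)) (A₁.subgroupOf P)
    (by
      intro h x hx
      rw [mem_subgroupOf] at hx ⊢
      rw [hsmul]
      exact (mem_normalizer_iff.1 (hHA₁ h.2) x).1 hx)
    (by
      rw [← hA₁]
      exact Nat.card_congr (subgroupOfEquivOfLe hA₁le).toEquiv)
    (by
      intro s hs
      obtain ⟨x, hx, hxs⟩ := hA₁P s hs
      exact ⟨⟨x, hx⟩, Subtype.ext (by simpa using hxs)⟩)
  refine ⟨C.map P.subtype, ?_, ?_, ?_, ?_, ?_⟩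
  · rintro _ ⟨x, -, rfl⟩
    exact x.2
  · exact isCyclic_of_surjective (C.equivMapOfInjective P.subtype P.subtype_injective).toMonoidHom
      (C.equivMapOfInjective P.subtype P.subtype_injective).surjective
  · rw [Subgroup.card_map_of_injective P.subtype_injective, hCcard]
  · intro a ha
    exact ⟨⟨a, hA₁le ha⟩, hSC (mem_subgroupOf.2 ha), rfl⟩
  · intro h hh
    have key : ∀ k ∈ H, ∀ x ∈ C.map P.subtype, k * x * k⁻¹ ∈ C.map P.subtype := by
      rintro k hk _ ⟨x, hx, rfl⟩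
      exact ⟨(⟨k, hk⟩ : H) • x, hCinv ⟨k, hk⟩ x hx, rfl⟩
    rw [mem_normalizer_iff]
    intro x
    refine ⟨key h hh x, fun hx => ?_⟩
    have := key h⁻¹ (H.inv_mem hh) _ hx
    simpa [mul_assoc] using this

end Cfsg.Agent.Lib.Helper65.BG1211
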