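import Cfsg.Agent.Lib.Helper31.BG11a
import Cfsg.Agent.Lib.Helper24.Rank2Main
import Cfsg.Agent.Lib.Helper66.AbelianIndec
import Cfsg.Agent.Lib.Helper1.Hall
import Cfsg.Agent.Lib.Helper1.Tools

set_option autoImplicit false

namespace Cfsg.Agent.Lib.Helper65.BG1211

open Subgroup Cfsg
open Cfsg.Agent.Lib
open Cfsg.Agent.Lib.Helper24 Cfsg.Agent.Lib.Helper34 Cfsg.Agent.Lib.Helper31.BG11

universe u

variable {G : Type u} [Group G] [Finite G]

/-- (Q2) -/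
theorem exists_cut {p : ℕ} [hp : Fact p.Prime] {V P C Y : Subgroup G} (hP : IsSylowIn p P V)
    (hYV : Y ≤ V) (hVY : V ≤ normalizer (Y : Set G)) (hY : (Nat.card Y).Coprime p)
    (hfr : ∀ v ∈ V, ∃ y ∈ Y, ∃ n ∈ V ⊓ normalizer (P : Set G), v = y * n)
    (hC : C ≤ P) (hN : V ⊓ normalizer (P : Set G) ≤ normalizer (C : Set G)) :
    ∃ V' : Subgroup G, V' ≤ V ∧ IsSylowIn p C V' ∧
      ∀ r : ℕ, r.Prime → r ≠ p → ¬ r ∣ V'.relIndex V := by
  have hPN : P ≤ V ⊓ normalizer (P : Set G) := le_inf hP.1 le_normalizer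
  have hidx : ¬ p ∣ P.relIndex (V ⊓ normalizer (P : Set G)) := by
    intro h
    apply hP.2.2
    rw [← relIndex_mul_relIndex P _ V hPN inf_le_left]
    exact h.mul_right _
  have hcop : (Nat.card P).Coprime (P.relIndex (V ⊓ normalizer (P : Set G))) := by
    obtain ⟨n, hn⟩ := IsPGroup.iff_card.1 hP.2.1
    rw [hn]
    exact Nat.Coprime.pow_left _ ((Nat.Prime.coprime_iff_not_dvd hp.out).2 hidx)
  obtain ⟨H₁, hH₁N, hH₁card, hH₁sup⟩ := Helper1.sz_exists_rel P _ hPN inf_le_right hcop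
  have hH₁p : (Nat.card H₁).Coprime p := by
    rw [hH₁card]
    exact ((Nat.Prime.coprime_iff_not_dvd hp.out).2 hidx).symm
  have hCH₁V : H₁ ⊔ C ≤ V := sup_le (hH₁N.trans inf_le_left) (hC.trans hP.1)
  refine ⟨(H₁ ⊔ C) ⊔ Y, sup_le hCH₁V hYV, ⟨le_sup_right.trans le_sup_left, hP.2.1.to_le hC, ?_⟩, ?_⟩
  · -- `C` is Sylow in `V'`
    have h1 : Nat.card ((H₁ ⊔ C) ⊔ Y : Subgroup G) ∣ Nat.card (H₁ ⊔ C : Subgroup G) * Nat.card Y :=
      Helper1.card_sup_dvd (hCH₁V.trans hVY)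
    have h2 : Nat.card (H₁ ⊔ C : Subgroup G) ∣ Nat.card H₁ * Nat.card C :=
      Helper1.card_sup_dvd (hH₁N.trans hN)
    have h3 : C.relIndex ((H₁ ⊔ C) ⊔ Y) * Nat.card C = Nat.card ((H₁ ⊔ C) ⊔ Y : Subgroup G) :=
      Helper1.relIndex_mul_card (le_sup_right.trans le_sup_left)
    have h4 : C.relIndex ((H₁ ⊔ C) ⊔ Y) * Nat.card C ∣ (Nat.card H₁ * Nat.card Y) * Nat.card C := by
      rw [h3]
      refine h1.trans ?_
      have : Nat.card H₁ * Nat.card Y * Nat.card C = (Nat.card H₁ * Nat.card C) * Nat.card Y := by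
        ring
      rw [this]
      exact Nat.mul_dvd_mul_right h2 _
    have h5 : C.relIndex ((H₁ ⊔ C) ⊔ Y) ∣ Nat.card H₁ * Nat.card Y :=
      Nat.dvd_of_mul_dvd_mul_right Nat.card_pos h4
    intro hdiv
    have h6 : (Nat.card H₁ * Nat.card Y).Coprime p := Nat.Coprime.mul_left hH₁p hY
    exact hp.out.one_lt.ne' (Nat.eq_one_of_dvd_coprimes h6 (hdiv.trans h5) dvd_rfl)
  · -- the index is a power of `p`
    intro r hr hrp hdiv
    set V' := (H₁ ⊔ C) ⊔ Y with hV'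
    have hP' : IsPGroup p (P.subgroupOf V) := isPGroup_subgroupOf V hP.2.1
    obtain ⟨n, hn⟩ := hP'.card_orbit (α := V ⧸ V'.subgroupOf V) ((1 : V) : V ⧸ V'.subgroupOf V)
    have horb : MulAction.orbit (P.subgroupOf V) (((1 : V) : V ⧸ V'.subgroupOf V)) = Set.univ := by
      rw [Set.eq_univ_iff_forall]
      intro q
      obtain ⟨v, rfl⟩ := QuotientGroup.mk_surjective q
      -- `v⁻¹ = y h x`
      obtain ⟨y, hy, m, hm, hv⟩ := hfr (v : G)⁻¹ (V.inv_mem v.2)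
      have hm' : m ∈ H₁ ⊔ P := by rw [hH₁sup]; exact hm
      rw [← SetLike.mem_coe, coe_mul_of_left_le_normalizer_right H₁ P (hH₁N.trans inf_le_right)] at hm'
      obtain ⟨h, hh, x, hx, rfl⟩ := hm'
      refine ⟨⟨⟨x⁻¹, hP.1 (P.inv_mem hx)⟩, mem_subgroupOf.2 (P.inv_mem hx)⟩, ?_⟩
      show (((⟨x⁻¹, hP.1 (P.inv_mem hx)⟩ : V) * (1 : V) : V) : V ⧸ V'.subgroupOf V) = (v : V ⧸ V'.subgroupOf V)
      rw [QuotientGroup.eq, mem_subgroupOf]
      have : (((⟨x⁻¹, hP.1 (P.inv_mem hx)⟩ * (1 : V))⁻¹ * v : V) : G) = (y * h)⁻¹ := by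
        have hv' : (v : G) = (y * (h * x))⁻¹ := by rw [← hv, inv_inv]
        show ((x⁻¹ * 1)⁻¹ * (v : G)) = (y * h)⁻¹
        rw [hv']; group
      rw [this]
      apply V'.inv_mem
      exact V'.mul_mem (le_sup_right (a := H₁ ⊔ C) hy)
        (le_sup_left (b := Y) (le_sup_left (b := C) hh))
    have hcard : V'.relIndex V = p ^ n := by
      rw [← hn, horb, Nat.card_coe_set_eq, Set.ncard_univ]
      rfl
    rw [hcard] at hdiv
    exact hrp ((Nat.prime_dvd_prime_iff_eq hr hp.out).1 (hr.dvd_of_dvd_pow hdiv))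

end Cfsg.Agent.Lib.Helper65.BG1211
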